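import Mathlib.RingTheory.MvPowerSeries.Expand
import Mathlib.RingTheory.MvPowerSeries.Substitution
import Mathlib.RingTheory.MvPowerSeries.Order
import Mathlib.RingTheory.PowerSeries.Substitution
import Mathlib.RingTheory.DiscreteValuationRing.Basic
import Mathlib.FieldTheory.Finite.Basic
import Mathlib.RingTheory.LocalRing.ResidueField.Basic

/-!
# The Lubin–Tate lemma

For `f = π T + T ^ q` a series `φ` in several variables with `f (φ) = φ (f, …, f)` is determined by its
linear part, and every linear part occurs.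
-/

universe u v w

open MvPowerSeries Finset

noncomputable section

namespace Groth.Agent.LubinTate

theorem exists_single_of_degree_one {σ : Type*} {d : σ →₀ ℕ} (h : d.degree = 1) : ∃ i, d = Finsupp.single i 1 := by
  obtain ⟨i, hi⟩ := (Set.ext_iff.1 Finsupp.range_single_one d).2 h
  exact ⟨i, hi.symm⟩

section Twist

variable {R : Type u} [CommRing R] {σ : Type v} {τ : Type w}

/-- The substitution `X_i ↦ π X_i + X_i ^ q`. -/
def tw (π : R) (q : ℕ) (i : σ) : MvPowerSeries σ R := π • X i + X i ^ q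

theorem constantCoeff_tw (π : R) {q : ℕ} (hq : q ≠ 0) (i : σ) : constantCoeff (tw π q i) = 0 := by
  simp [tw, zero_pow hq]

theorem hasSubst_tw [Finite σ] (π : R) {q : ℕ} (hq : q ≠ 0) : HasSubst (tw (σ := σ) π q) :=
  hasSubst_of_constantCoeff_zero fun i => constantCoeff_tw π hq i

theorem coeff_subst_tw [Fintype σ] (π : R) {q : ℕ} (hq : 2 ≤ q) {d : σ →₀ ℕ} {δ : MvPowerSeries σ R}
    (hδ : ∀ e : σ →₀ ℕ, e.degree < d.degree → coeff e δ = 0) :
    coeff d (subst (tw π q) δ) = π ^ d.degree * coeff d δ := by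
  classical
  rw [coeff_subst (hasSubst_tw π (by omega))]
  have hprod : ∀ e : σ →₀ ℕ, e.prod (fun s n => tw π q s ^ n) =
      monomial e (1 : R) * ∏ s ∈ e.support, (C π + X s ^ (q - 1)) ^ e s := by
    intro e
    rw [monomial_one_eq, Finsupp.prod, Finsupp.prod, ← Finset.prod_mul_distrib]
    refine Finset.prod_congr rfl fun s _ => ?_
    rw [← mul_pow]
    congr 1
    rw [tw, mul_add, ← pow_succ', smul_eq_C_mul, mul_comm (C π)]
    congr 2
    omega
  rw [finsum_eq_single _ d]
  · rw [hprod, smul_eq_mul, coeff_monomial_mul, if_pos le_rfl, tsub_self, one_mul, coeff_zero_eq_constantCoeff_apply,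
      map_prod, mul_comm]
    congr 1
    simp [zero_pow (show q - 1 ≠ 0 by omega), Finset.prod_pow_eq_pow_sum, Finsupp.degree]
    all_goals rfl
  · intro e he
    rcases lt_or_ge e.degree d.degree with h | h
    · rw [hδ e h, zero_smul]
    · rw [hprod, coeff_monomial_mul, if_neg, smul_zero]
      intro hle
      obtain ⟨c, rfl⟩ := exists_add_of_le hle
      rw [map_add] at h
      have hc : c.degree = 0 := by omega
      rw [Finsupp.degree_eq_zero_iff] at hc
      simp [hc] at he

theorem coeff_subst_tw_sub [Fintype σ] (π : R) {q : ℕ} (hq : 2 ≤ q) {d : σ →₀ ℕ} {φ ψ : MvPowerSeries σ R}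
    (h : ∀ e : σ →₀ ℕ, e.degree < d.degree → coeff e φ = coeff e ψ) :
    coeff d (subst (tw π q) φ) - coeff d (subst (tw π q) ψ) = π ^ d.degree * (coeff d φ - coeff d ψ) := by
  have := coeff_subst_tw π hq (d := d) (δ := φ - ψ) (fun e he => by rw [map_sub, h e he, sub_self])
  rw [← coe_substAlgHom (hasSubst_tw π (by omega)), map_sub, map_sub, map_sub, coe_substAlgHom] at this
  exact this

theorem coeff_pow_congr {q : ℕ} (hq : 2 ≤ q) {d : σ →₀ ℕ} {φ ψ : MvPowerSeries σ R}
    (hφ : constantCoeff φ = 0) (hψ : constantCoeff ψ = 0)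
    (h : ∀ e : σ →₀ ℕ, e.degree < d.degree → coeff e φ = coeff e ψ) :
    coeff d (φ ^ q) = coeff d (ψ ^ q) := by
  rw [← sub_eq_zero, ← map_sub, ← geom_sum₂_mul]
  have h1 : (d.degree : ℕ∞) ≤ (φ - ψ).order := le_order fun e he => by
    rw [map_sub, h e (by exact_mod_cast he), sub_self]
  have h2 : (1 : ℕ∞) ≤ (∑ i ∈ range q, φ ^ i * ψ ^ (q - 1 - i)).order := by
    rw [one_le_order_iff_constCoeff_eq_zero, map_sum]
    refine Finset.sum_eq_zero fun i _ => ?_
    rw [map_mul, map_pow, map_pow, hφ, hψ, ← pow_add, zero_pow]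
    omega
  refine coeff_of_lt_order (lt_of_lt_of_le ?_ ((add_le_add h2 h1).trans le_order_mul))
  exact_mod_cast (show d.degree < 1 + d.degree by omega)

end Twist

section Recursion

variable {R : Type u} [CommRing R] {σ : Type v}

/-- A recursion on the degree: an operator whose coefficient in degree `n` is affine in the coefficients of degree `n`,
with slope `u n`, has a zero with prescribed coefficients of degree at most `1`. -/
theorem exists_zero (T : MvPowerSeries σ R → MvPowerSeries σ R) (u : ℕ → R) (L : MvPowerSeries σ R)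
    (hL : constantCoeff L = 0)
    (hdiff : ∀ φ ψ : MvPowerSeries σ R, constantCoeff φ = 0 → constantCoeff ψ = 0 → ∀ d : σ →₀ ℕ,
      (∀ e : σ →₀ ℕ, e.degree < d.degree → coeff e φ = coeff e ψ) →
      coeff d (T φ) - coeff d (T ψ) = u d.degree * (coeff d φ - coeff d ψ))
    (hsolve : ∀ φ : MvPowerSeries σ R, constantCoeff φ = 0 → ∀ d : σ →₀ ℕ, 2 ≤ d.degree →
      ∃ c, u d.degree * c = coeff d (T φ))
    (hlow : ∀ φ : MvPowerSeries σ R, constantCoeff φ = 0 → ∀ d : σ →₀ ℕ, d.degree ≤ 1 → coeff d (T φ) = 0) :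
    ∃ φ : MvPowerSeries σ R, constantCoeff φ = 0 ∧ (∀ d : σ →₀ ℕ, d.degree = 1 → coeff d φ = coeff d L) ∧ T φ = 0 := by
  classical
  let ok : MvPowerSeries σ R → MvPowerSeries σ R := fun φ => φ - C (constantCoeff φ)
  have hok : ∀ φ, constantCoeff (ok φ) = 0 := fun φ => by simp [ok]
  let sol : MvPowerSeries σ R → (σ →₀ ℕ) → R := fun φ d =>
    if h : 2 ≤ d.degree then (hsolve (ok φ) (hok φ) d h).choose else 0
  let P : ℕ → MvPowerSeries σ R := fun n => Nat.rec (motive := fun _ => MvPowerSeries σ R)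
    (fun d => if d.degree = 1 then coeff d L else 0)
    (fun n φ d => if d.degree = n + 1 ∧ 2 ≤ d.degree then coeff d φ - sol φ d else coeff d φ) n
  have hP0 : ∀ d, coeff d (P 0) = if d.degree = 1 then coeff d L else 0 := fun d => rfl
  have hPs : ∀ n d, coeff d (P (n + 1)) =
      if d.degree = n + 1 ∧ 2 ≤ d.degree then coeff d (P n) - sol (P n) d else coeff d (P n) := fun n d => rfl
  have hstab : ∀ n m d, d.degree ≤ n → n ≤ m → coeff d (P m) = coeff d (P n) := by
    intro n m d hd hnm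
    induction m, hnm using Nat.le_induction with
    | base => rfl
    | succ m hnm ih => rw [hPs, if_neg (by omega), ih]
  have hPc : ∀ n, constantCoeff (P n) = 0 := fun n => by
    rw [← coeff_zero_eq_constantCoeff_apply, hstab 0 n 0 (by simp) (Nat.zero_le _), hP0]
    simp
  let φ : MvPowerSeries σ R := fun d => coeff d (P d.degree)
  have hφ : ∀ d, coeff d φ = coeff d (P d.degree) := fun d => rfl
  have hφc : constantCoeff φ = 0 := by
    rw [← coeff_zero_eq_constantCoeff_apply, hφ, map_zero, coeff_zero_eq_constantCoeff_apply]; exact hPc 0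
  refine ⟨φ, hφc, fun d hd => ?_, MvPowerSeries.ext fun d => ?_⟩
  · rw [hφ, hd]
    refine (hPs 0 d).trans ?_
    rw [if_neg (by omega), hP0, if_pos hd]
  · rw [map_zero]
    rcases le_or_gt d.degree 1 with hd | hd
    · exact hlow φ hφc d hd
    · obtain ⟨n, hn⟩ : ∃ n, d.degree = n + 1 := ⟨d.degree - 1, by omega⟩
      have h := hdiff φ (P n) hφc (hPc n) d fun e he => by
        rw [hφ, hstab e.degree n e le_rfl (by omega)]
      have hval : coeff d φ = coeff d (P n) - sol (P n) d := by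
        rw [hφ, hn, hPs, if_pos ⟨hn, by omega⟩]
      have hsol : u d.degree * sol (P n) d = coeff d (T (P n)) := by
        have h2 := (hsolve (ok (P n)) (hok _) d (by omega)).choose_spec
        have h3 : ok (P n) = P n := by simp [ok, hPc n]
        simp only [sol, dif_pos (show 2 ≤ d.degree by omega)]
        exact h2.trans (by rw [h3])
      rw [hval] at h
      linear_combination h - hsol

/-- Uniqueness in the recursion. -/
theorem eq_of_zero (T : MvPowerSeries σ R → MvPowerSeries σ R) (u : ℕ → R)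
    (hdiff : ∀ φ ψ : MvPowerSeries σ R, constantCoeff φ = 0 → constantCoeff ψ = 0 → ∀ d : σ →₀ ℕ,
      (∀ e : σ →₀ ℕ, e.degree < d.degree → coeff e φ = coeff e ψ) →
      coeff d (T φ) - coeff d (T ψ) = u d.degree * (coeff d φ - coeff d ψ))
    (hu : ∀ n, 2 ≤ n → ∀ c, u n * c = 0 → c = 0)
    {φ ψ : MvPowerSeries σ R} (hφ : constantCoeff φ = 0) (hψ : constantCoeff ψ = 0)
    (h1 : ∀ d : σ →₀ ℕ, d.degree = 1 → coeff d φ = coeff d ψ) (hTφ : T φ = 0) (hTψ : T ψ = 0) : φ = ψ := by
  refine MvPowerSeries.ext fun d => ?_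
  induction hn : d.degree using Nat.strong_induction_on generalizing d with
  | _ n ih =>
    rcases Nat.lt_or_ge n 2 with h | h
    · rcases Nat.lt_or_ge n 1 with h' | h'
      · have : d = 0 := (Finsupp.degree_eq_zero_iff d).1 (by omega)
        subst this
        rw [coeff_zero_eq_constantCoeff_apply, coeff_zero_eq_constantCoeff_apply, hφ, hψ]
      · exact h1 d (by omega)
    · have h2 := hdiff φ ψ hφ hψ d fun e he => ih e.degree (hn ▸ he) e rfl
      rw [hTφ, hTψ, map_zero, sub_zero, hn] at h2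
      exact sub_eq_zero.1 (hu n h _ h2.symm)

end Recursion

section Endo

variable {R : Type u} [CommRing R] {σ : Type v} {τ : Type w}

/-- `φ` commutes with `π T + T ^ q`. -/
def IsSol (π : R) (q : ℕ) (φ : MvPowerSeries σ R) : Prop := π • φ + φ ^ q = subst (tw π q) φ

/-- `φ` is an eigenvector of composition with `π T + T ^ q`. -/
def IsEig (π : R) (q : ℕ) (φ : MvPowerSeries σ R) : Prop := subst (tw π q) φ = π • φ

theorem diffE [Fintype σ] (π : R) {q : ℕ} (hq : 2 ≤ q) (φ ψ : MvPowerSeries σ R) (hφ : constantCoeff φ = 0)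
    (hψ : constantCoeff ψ = 0) (d : σ →₀ ℕ) (h : ∀ e : σ →₀ ℕ, e.degree < d.degree → coeff e φ = coeff e ψ) :
    coeff d (π • φ + φ ^ q - subst (tw π q) φ) - coeff d (π • ψ + ψ ^ q - subst (tw π q) ψ) =
      (π - π ^ d.degree) * (coeff d φ - coeff d ψ) := by
  simp only [map_sub, map_add, coeff_smul]
  linear_combination (coeff_pow_congr hq hφ hψ h) - (coeff_subst_tw_sub π hq h)

theorem isUnit_one_sub_pow [IsLocalRing R] {π : R} (hπ : ¬ IsUnit π) {n : ℕ} (hn : n ≠ 0) : IsUnit (1 - π ^ n) :=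
  (IsLocalRing.isUnit_or_isUnit_one_sub_self (π ^ n)).resolve_left fun h => hπ ((isUnit_pow_iff hn).1 h)

/-- Frobenius in the residue ring. -/
def FrobHyp (π : R) (q : ℕ) : Prop :=
  ∀ (σ : Type) [Fintype σ] (φ : MvPowerSeries σ R), ∀ d, coeff d (φ ^ q - subst (fun i => X i ^ q) φ) ∈ Ideal.span {π}

theorem exists_isSol [IsLocalRing R] {σ : Type} [Fintype σ] {π : R} {q : ℕ} (hq : 2 ≤ q) (hπ : ¬ IsUnit π)
    (hfrob : FrobHyp π q) (a : σ → R) :
    ∃ φ : MvPowerSeries σ R, constantCoeff φ = 0 ∧ (∀ i, coeff (Finsupp.single i 1) φ = a i) ∧ IsSol π q φ := by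
  classical
  let L : MvPowerSeries σ R := ∑ i, a i • X i
  have hL : constantCoeff L = 0 := by simp [L]
  have hs : ∀ φ : MvPowerSeries σ R, constantCoeff φ = 0 → ∀ d : σ →₀ ℕ, 2 ≤ d.degree →
      ∃ c, (π - π ^ d.degree) * c = coeff d (π • φ + φ ^ q - subst (tw π q) φ) := by
    intro φ hφ d hd
    let ρ := Ideal.Quotient.mk (Ideal.span ({π} : Set R))
    have hρ : ρ π = 0 := Ideal.Quotient.eq_zero_iff_mem.2 (Ideal.mem_span_singleton_self π)
    have hmem : coeff d (π • φ + φ ^ q - subst (tw π q) φ) ∈ Ideal.span {π} := by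
      rw [← Ideal.Quotient.eq_zero_iff_mem, show Ideal.Quotient.mk (Ideal.span ({π} : Set R)) = ρ from rfl,
        ← MvPowerSeries.coeff_map]
      have h3 : MvPowerSeries.map ρ (π • φ + φ ^ q - subst (tw π q) φ) =
          MvPowerSeries.map ρ (φ ^ q - subst (fun i => X i ^ q) φ) := by
        rw [map_sub, map_add, map_sub, smul_eq_C_mul, map_mul, map_C, hρ, map_zero, zero_mul, zero_add,
          map_subst (hasSubst_tw π (by omega)), map_subst (HasSubst.X_pow (by omega))]
        congr 2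
        refine funext fun i => ?_
        simp [tw, smul_eq_C_mul, hρ]
      rw [h3, MvPowerSeries.coeff_map]
      exact Ideal.Quotient.eq_zero_iff_mem.2 (hfrob σ φ d)
    obtain ⟨c, hc⟩ := Ideal.mem_span_singleton'.1 hmem
    obtain ⟨v, hv⟩ := isUnit_one_sub_pow (π := π) hπ (show d.degree - 1 ≠ 0 by omega)
    refine ⟨↑v⁻¹ * c, ?_⟩
    rw [← hc, show π - π ^ d.degree = π * (1 - π ^ (d.degree - 1)) by
      rw [mul_sub, mul_one, ← pow_succ']; congr 2; omega, ← hv]
    linear_combination (π * c) * v.mul_inv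
  have hl : ∀ φ : MvPowerSeries σ R, constantCoeff φ = 0 → ∀ d : σ →₀ ℕ, d.degree ≤ 1 →
      coeff d (π • φ + φ ^ q - subst (tw π q) φ) = 0 := by
    intro φ hφ d hd
    have h3 := diffE π hq φ 0 hφ (map_zero _) d fun e he => by
      have : e = 0 := (Finsupp.degree_eq_zero_iff e).1 (by omega)
      subst this
      simp [hφ]
    have h4 : subst (tw π q) (0 : MvPowerSeries σ R) = 0 := by
      rw [← coe_substAlgHom (hasSubst_tw π (by omega)), map_zero]
    simp only [h4, smul_zero, zero_pow (show q ≠ 0 by omega), add_zero, sub_zero, map_zero] at h3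
    rw [h3]
    rcases Nat.lt_or_ge d.degree 1 with h | h
    · have : d = 0 := (Finsupp.degree_eq_zero_iff d).1 (by omega)
      subst this
      simp [hφ]
    · rw [show d.degree = 1 by omega, pow_one, sub_self, zero_mul]
  obtain ⟨φ, h0, h1, h2⟩ := exists_zero (fun φ => π • φ + φ ^ q - subst (tw π q) φ) (fun n => π - π ^ n) L hL
    (diffE π hq) hs hl
  refine ⟨φ, h0, fun i => ?_, sub_eq_zero.1 h2⟩
  rw [h1 _ (by simp), map_sum]
  simp [coeff_X, Finsupp.single_left_inj, Finsupp.degree_single]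

variable [IsDomain R]

theorem slope_ne_zero {π : R} (hπ0 : π ≠ 0) (hπ : ¬ IsUnit π) {n : ℕ} (hn : 2 ≤ n) : π - π ^ n ≠ 0 := by
  intro h
  obtain ⟨m, rfl⟩ : ∃ m, n = m + 2 := ⟨n - 2, by omega⟩
  refine hπ (IsUnit.of_mul_eq_one (π ^ m) (mul_left_cancel₀ hπ0 ?_))
  rw [mul_one]
  linear_combination -h

theorem IsSol.ext [Fintype σ] {π : R} {q : ℕ} (hq : 2 ≤ q) (hπ0 : π ≠ 0) (hπ : ¬ IsUnit π)
    {φ ψ : MvPowerSeries σ R} (hφ : IsSol π q φ) (hψ : IsSol π q ψ) (hφ0 : constantCoeff φ = 0)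
    (hψ0 : constantCoeff ψ = 0) (h1 : ∀ i, coeff (Finsupp.single i 1) φ = coeff (Finsupp.single i 1) ψ) : φ = ψ := by
  refine eq_of_zero (fun φ => π • φ + φ ^ q - subst (tw π q) φ) (fun n => π - π ^ n) (diffE π hq)
    (fun n hn c hc => (mul_eq_zero.1 hc).resolve_left (slope_ne_zero hπ0 hπ hn)) hφ0 hψ0 (fun d hd => ?_)
    (sub_eq_zero.2 hφ) (sub_eq_zero.2 hψ)
  obtain ⟨i, rfl⟩ := exists_single_of_degree_one hd
  exact h1 i

end Endo

section Comp

variable {R : Type u} [CommRing R] {σ : Type v} {τ : Type w}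

theorem constantCoeff_subst_zero [Finite σ] {g : σ → MvPowerSeries τ R} (hg : ∀ i, constantCoeff (g i) = 0)
    {φ : MvPowerSeries σ R} (hφ : constantCoeff φ = 0) : constantCoeff (subst g φ) = 0 :=
  constantCoeff_subst_eq_zero (hasSubst_of_constantCoeff_zero hg) hg hφ

theorem isSol_X [Finite σ] (π : R) {q : ℕ} (hq : q ≠ 0) (i : σ) : IsSol π q (X i : MvPowerSeries σ R) := by
  rw [IsSol, subst_X (hasSubst_tw π hq)]
  rfl

theorem IsSol.subst [Finite σ] [Finite τ] {π : R} {q : ℕ} (hq : q ≠ 0) {φ : MvPowerSeries σ R} (hφ : IsSol π q φ)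
    {g : σ → MvPowerSeries τ R} (hg0 : ∀ i, constantCoeff (g i) = 0) (hg : ∀ i, IsSol π q (g i)) :
    IsSol π q (MvPowerSeries.subst g φ) := by
  have hgs := hasSubst_of_constantCoeff_zero hg0
  have h := congrArg (MvPowerSeries.subst g) hφ
  rw [subst_add hgs, subst_smul hgs, subst_pow hgs, subst_comp_subst_apply (hasSubst_tw π hq) hgs] at h
  rw [IsSol, h, subst_comp_subst_apply hgs (hasSubst_tw π hq)]
  congr 1
  funext i
  rw [← hg i, tw, subst_add hgs, subst_smul hgs, subst_pow hgs, subst_X hgs]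

theorem IsEig.subst [Finite σ] [Finite τ] {π : R} {q : ℕ} (hq : q ≠ 0) {φ : MvPowerSeries σ R} (hφ : IsEig π q φ)
    {g : σ → MvPowerSeries τ R} (hg0 : ∀ i, constantCoeff (g i) = 0) (hg : ∀ i, IsSol π q (g i)) :
    IsEig π q (MvPowerSeries.subst g φ) := by
  have hgs := hasSubst_of_constantCoeff_zero hg0
  have h := congrArg (MvPowerSeries.subst g) hφ
  rw [subst_smul hgs, subst_comp_subst_apply (hasSubst_tw π hq) hgs] at h
  rw [IsEig, ← h, subst_comp_subst_apply hgs (hasSubst_tw π hq)]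
  congr 1
  funext i
  rw [← hg i, tw, subst_add hgs, subst_smul hgs, subst_pow hgs, subst_X hgs]

theorem IsEig.smul [Finite σ] {π : R} {q : ℕ} (hq : q ≠ 0) {φ : MvPowerSeries σ R} (hφ : IsEig π q φ) (a : R) :
    IsEig π q (a • φ) := by
  rw [IsEig, subst_smul (hasSubst_tw π hq), hφ, smul_comm]

theorem IsEig.add [Finite σ] {π : R} {q : ℕ} (hq : q ≠ 0) {φ ψ : MvPowerSeries σ R} (hφ : IsEig π q φ)
    (hψ : IsEig π q ψ) : IsEig π q (φ + ψ) := by
  rw [IsEig, subst_add (hasSubst_tw π hq), hφ, hψ, smul_add]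

/-- The linear part of a composite. -/
theorem coeff_single_subst [Fintype σ] {g : σ → MvPowerSeries τ R} (hg : ∀ i, constantCoeff (g i) = 0)
    {φ : MvPowerSeries σ R} (hφ : constantCoeff φ = 0) (j : τ) :
    coeff (Finsupp.single j 1) (subst g φ) =
      ∑ i, coeff (Finsupp.single i 1) φ * coeff (Finsupp.single j 1) (g i) := by
  classical
  have hgs := hasSubst_of_constantCoeff_zero hg
  have hr : (2 : ℕ∞) ≤ (φ - ∑ i, coeff (Finsupp.single i 1) φ • X i).order := le_order fun e he => by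
    have he' : e.degree < 2 := by exact_mod_cast he
    rcases Nat.lt_or_ge e.degree 1 with h | h
    · have : e = 0 := (Finsupp.degree_eq_zero_iff e).1 (by omega)
      subst this
      simp [hφ]
    · obtain ⟨i, rfl⟩ := exists_single_of_degree_one (show e.degree = 1 by omega)
      simp [map_sum, coeff_X, Finsupp.single_left_inj]
  have h2 : coeff (Finsupp.single j 1) (subst g (φ - ∑ i, coeff (Finsupp.single i 1) φ • X i)) = 0 := by
    refine coeff_of_lt_order (lt_of_lt_of_le ?_ (le_order_subst hgs _))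
    refine lt_of_lt_of_le ?_ (mul_le_mul' (le_iInf fun i => one_le_order_iff_constCoeff_eq_zero.2 (hg i)) hr)
    simp
  rw [← coe_substAlgHom hgs, map_sub, map_sub, sub_eq_zero, map_sum, map_sum] at h2
  rw [← coe_substAlgHom hgs, h2]
  exact Finset.sum_congr rfl fun i _ => by rw [map_smul, substAlgHom_X, coeff_smul]

end Comp

section Eig

variable {K : Type u} [Field K] {σ : Type v} [Fintype σ]

theorem diffEig (π : K) {q : ℕ} (hq : 2 ≤ q) (φ ψ : MvPowerSeries σ K) (_ : constantCoeff φ = 0)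
    (_ : constantCoeff ψ = 0) (d : σ →₀ ℕ) (h : ∀ e : σ →₀ ℕ, e.degree < d.degree → coeff e φ = coeff e ψ) :
    coeff d (subst (tw π q) φ - π • φ) - coeff d (subst (tw π q) ψ - π • ψ) =
      (π ^ d.degree - π) * (coeff d φ - coeff d ψ) := by
  simp only [map_sub, coeff_smul]
  linear_combination coeff_subst_tw_sub π hq h

theorem exists_isEig {π : K} {q : ℕ} (hq : 2 ≤ q) (hu : ∀ n, 2 ≤ n → π ^ n - π ≠ 0) (a : σ → K) :
    ∃ φ : MvPowerSeries σ K, constantCoeff φ = 0 ∧ (∀ i, coeff (Finsupp.single i 1) φ = a i) ∧ IsEig π q φ := by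
  classical
  let L : MvPowerSeries σ K := ∑ i, a i • X i
  have hl : ∀ φ : MvPowerSeries σ K, constantCoeff φ = 0 → ∀ d : σ →₀ ℕ, d.degree ≤ 1 →
      coeff d (subst (tw π q) φ - π • φ) = 0 := by
    intro φ hφ d hd
    have h3 := diffEig π hq φ 0 hφ (map_zero _) d fun e he => by
      have : e = 0 := (Finsupp.degree_eq_zero_iff e).1 (by omega)
      subst this
      simp [hφ]
    have h4 : subst (tw π q) (0 : MvPowerSeries σ K) = 0 := by
      rw [← coe_substAlgHom (hasSubst_tw π (by omega)), map_zero]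
    simp only [h4, smul_zero, sub_zero, map_zero] at h3
    rw [h3]
    rcases Nat.lt_or_ge d.degree 1 with h | h
    · have : d = 0 := (Finsupp.degree_eq_zero_iff d).1 (by omega)
      subst this
      simp [hφ]
    · rw [show d.degree = 1 by omega, pow_one, sub_self, zero_mul]
  obtain ⟨φ, h0, h1, h2⟩ := exists_zero (fun φ => subst (tw π q) φ - π • φ) (fun n => π ^ n - π) L (by simp [L])
    (diffEig π hq) (fun φ hφ d hd => ⟨_, mul_div_cancel₀ _ (hu _ hd)⟩) hl
  refine ⟨φ, h0, fun i => ?_, sub_eq_zero.1 h2⟩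
  rw [h1 _ (by simp), map_sum]
  simp [coeff_X, Finsupp.single_left_inj, Finsupp.degree_single]

theorem IsEig.ext {π : K} {q : ℕ} (hq : 2 ≤ q) (hu : ∀ n, 2 ≤ n → π ^ n - π ≠ 0)
    {φ ψ : MvPowerSeries σ K} (hφ : IsEig π q φ) (hψ : IsEig π q ψ) (hφ0 : constantCoeff φ = 0)
    (hψ0 : constantCoeff ψ = 0) (h1 : ∀ i, coeff (Finsupp.single i 1) φ = coeff (Finsupp.single i 1) ψ) : φ = ψ := by
  refine eq_of_zero (fun φ => MvPowerSeries.subst (tw π q) φ - π • φ) (fun n => π ^ n - π) (diffEig π hq)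
    (fun n hn c hc => (mul_eq_zero.1 hc).resolve_left (hu n hn)) hφ0 hψ0 (fun d hd => ?_)
    (sub_eq_zero.2 hφ) (sub_eq_zero.2 hψ)
  obtain ⟨i, rfl⟩ := exists_single_of_degree_one hd
  exact h1 i

end Eig

section Dvr

variable (O : Type u) [CommRing O] [IsDomain O] [IsDiscreteValuationRing O] [Finite (IsLocalRing.ResidueField O)]

theorem two_le_card : 2 ≤ Nat.card (IsLocalRing.ResidueField O) := Finite.one_lt_card

theorem frobHyp {π : O} (hπ : Irreducible π) : FrobHyp π (Nat.card (IsLocalRing.ResidueField O)) := by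
  intro σ _ φ d
  rw [← hπ.maximalIdeal_eq, ← IsLocalRing.residue_eq_zero_iff, ← MvPowerSeries.coeff_map]
  let k := IsLocalRing.ResidueField O
  let q := Nat.card k
  have hq : q ≠ 0 := Nat.card_pos.ne'
  have key : ∀ ψ : MvPowerSeries σ k, ψ ^ q = subst (fun i => (X i : MvPowerSeries σ k) ^ q) ψ := by
    intro ψ
    cases nonempty_fintype k
    obtain ⟨m, hp, hcard⟩ := FiniteField.card k (ringChar k)
    haveI := Fact.mk hp
    haveI : ExpChar k (ringChar k) := ExpChar.prime hp
    have hid : iterateFrobenius k (ringChar k) (m : ℕ) = RingHom.id k := RingHom.ext fun x => by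
      rw [iterateFrobenius_def, ← hcard, FiniteField.pow_card]; rfl
    have hqm : q = ringChar k ^ (m : ℕ) := (Nat.card_eq_fintype_card).trans hcard
    have h := map_iterateFrobenius_expand (ringChar k) hp.ne_zero ψ (m : ℕ)
    rw [hid, map_id, RingHom.id_apply, expand, coe_substAlgHom] at h
    rw [hqm]
    exact h.symm
  rw [map_sub, map_pow, map_subst (HasSubst.X_pow hq), key]
  simp only [map_pow, map_X, sub_self, map_zero]

end Dvr

end Groth.Agent.LubinTate
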