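import Groth.Agent.Lib.LubinTate.Basic
import Mathlib.RingTheory.FormalGroup.Basic

/-!
# Lubin–Tate formal groups
-/

universe u v

open MvPowerSeries

noncomputable section

namespace Groth.Agent.LubinTate

variable {R : Type u} [CommRing R] {τ : Type v}

theorem subst_f {π : R} {q : ℕ} {f : PowerSeries R} (hf : f = π • PowerSeries.X + PowerSeries.X ^ q)
    {g : MvPowerSeries τ R} (hg : constantCoeff g = 0) : PowerSeries.subst g f = π • g + g ^ q := by
  have h := PowerSeries.HasSubst.of_constantCoeff_zero hg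
  rw [hf, PowerSeries.subst_add h, PowerSeries.subst_smul h, PowerSeries.subst_pow h, PowerSeries.subst_X h]

theorem tw_eq {π : R} {q : ℕ} {f : PowerSeries R} (hf : f = π • PowerSeries.X + PowerSeries.X ^ q) :
    (fun i : τ => PowerSeries.subst (X i : MvPowerSeries τ R) f) = tw π q :=
  funext fun i => subst_f hf (constantCoeff_X i)

theorem tw_unit {π : R} {q : ℕ} {f : PowerSeries R} (hf : f = π • PowerSeries.X + PowerSeries.X ^ q) :
    (fun _ : Unit => (f : MvPowerSeries Unit R)) = tw π q :=
  funext fun i => hf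

theorem subst_by_f {π : R} {q : ℕ} {f : PowerSeries R} (hf : f = π • PowerSeries.X + PowerSeries.X ^ q)
    (g : PowerSeries R) : PowerSeries.subst f g = MvPowerSeries.subst (tw π q) g := by
  rw [← tw_unit hf]; rfl

theorem isSol_unit {π : R} {q : ℕ} {f : PowerSeries R} (hf : f = π • PowerSeries.X + PowerSeries.X ^ q)
    {g : PowerSeries R} (hg : g.constantCoeff = 0) :
    IsSol π q (g : MvPowerSeries Unit R) ↔ PowerSeries.subst g f = PowerSeries.subst f g := by
  rw [subst_f hf hg, subst_by_f hf]
  rfl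

theorem isSol_fin {π : R} {q : ℕ} {f : PowerSeries R} (hf : f = π • PowerSeries.X + PowerSeries.X ^ q)
    {G : MvPowerSeries τ R} (hG : constantCoeff G = 0) :
    IsSol π q G ↔ PowerSeries.subst G f =
      MvPowerSeries.subst (fun i : τ => PowerSeries.subst (X i : MvPowerSeries τ R) f) G := by
  rw [subst_f hf hG, tw_eq hf]
  rfl

theorem coeff_one (g : PowerSeries R) : MvPowerSeries.coeff (Finsupp.single () 1) (g : MvPowerSeries Unit R) =
    PowerSeries.coeff 1 g :=
  rfl

theorem single_subst (g : PowerSeries R) {G : MvPowerSeries τ R} (hg : g.constantCoeff = 0)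
    (hG : constantCoeff G = 0) (j : τ) :
    MvPowerSeries.coeff (Finsupp.single j 1) (PowerSeries.subst G g) =
      PowerSeries.coeff 1 g * MvPowerSeries.coeff (Finsupp.single j 1) G := by
  rw [← coeff_one g]
  exact (coeff_single_subst (σ := Unit) (g := fun _ => G) (fun _ => hG) hg j).trans (Fintype.sum_unique _)

variable (O : Type u) [CommRing O] [IsDomain O] [IsDiscreteValuationRing O] [Finite (IsLocalRing.ResidueField O)]

theorem exists_formalGroup {π : O} (hπ : Irreducible π) :
    ∃ F : FormalGroup O, F.IsComm ∧ IsSol π (Nat.card (IsLocalRing.ResidueField O)) F.toPowerSeries := by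
  have hq := two_le_card O
  have hq0 : Nat.card (IsLocalRing.ResidueField O) ≠ 0 := by omega
  obtain ⟨F, h0, h1, hsol⟩ := exists_isSol hq hπ.not_isUnit (frobHyp O hπ) (fun _ : Fin 2 => (1 : O))
  have hlin : ∀ {τ : Type} (g : Fin 2 → MvPowerSeries τ O), (∀ i, constantCoeff (g i) = 0) → ∀ j,
      coeff (Finsupp.single j 1) (subst g F) =
        coeff (Finsupp.single j 1) (g 0) + coeff (Finsupp.single j 1) (g 1) := fun g hg j => by
    rw [coeff_single_subst hg h0, Fin.sum_univ_two, h1, h1, one_mul, one_mul]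
  have hX3 : ∀ (i j : Fin 3), ∀ l, constantCoeff ((![X i, X j] : Fin 2 → MvPowerSeries (Fin 3) O) l) = 0 := by
    intro i j l; fin_cases l <;> simp
  have hX3s : ∀ (i j : Fin 3), ∀ l, IsSol π (Nat.card (IsLocalRing.ResidueField O))
      ((![X i, X j] : Fin 2 → MvPowerSeries (Fin 3) O) l) := by
    intro i j l; fin_cases l
    · exact isSol_X π hq0 i
    · exact isSol_X π hq0 j
  refine ⟨⟨F, h0, h1 0, h1 1, ?_⟩, ?_, hsol⟩
  · have hl : ∀ l, constantCoeff ((![subst ![X 0, X 1] F, X 2] : Fin 2 → MvPowerSeries (Fin 3) O) l) = 0 := by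
      intro l; fin_cases l
      · exact constantCoeff_subst_zero (hX3 0 1) h0
      · exact constantCoeff_X _
    have hr : ∀ l, constantCoeff ((![X 0, subst ![X 1, X 2] F] : Fin 2 → MvPowerSeries (Fin 3) O) l) = 0 := by
      intro l; fin_cases l
      · exact constantCoeff_X _
      · exact constantCoeff_subst_zero (hX3 1 2) h0
    refine IsSol.ext hq hπ.ne_zero hπ.not_isUnit (hsol.subst hq0 hl ?_) (hsol.subst hq0 hr ?_)
      (constantCoeff_subst_zero hl h0) (constantCoeff_subst_zero hr h0) fun j => ?_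
    · intro l; fin_cases l
      · exact hsol.subst hq0 (hX3 0 1) (hX3s 0 1)
      · exact isSol_X π hq0 _
    · intro l; fin_cases l
      · exact isSol_X π hq0 _
      · exact hsol.subst hq0 (hX3 1 2) (hX3s 1 2)
    · rw [hlin _ hl, hlin _ hr]
      simp only [Matrix.cons_val_zero, Matrix.cons_val_one, Matrix.cons_val_fin_one]
      rw [hlin _ (hX3 0 1), hlin _ (hX3 1 2)]
      simp only [Matrix.cons_val_zero, Matrix.cons_val_one, Matrix.cons_val_fin_one]
      ring
  · have hc : ∀ l, constantCoeff ((![X 1, X 0] : Fin 2 → MvPowerSeries (Fin 2) O) l) = 0 := by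
      intro l; fin_cases l <;> simp
    refine ⟨IsSol.ext hq hπ.ne_zero hπ.not_isUnit hsol (hsol.subst hq0 hc ?_) h0
      (constantCoeff_subst_zero hc h0) fun j => ?_⟩
    · intro l; fin_cases l
      · exact isSol_X π hq0 _
      · exact isSol_X π hq0 _
    · rw [hlin _ hc, h1]
      fin_cases j <;> simp [coeff_X, Finsupp.single_left_inj]

end Groth.Agent.LubinTate
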