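import Groth.Agent.Lib.LubinTate.Formal

/-!
# The inverse series of a formal group
-/

universe u

open MvPowerSeries

noncomputable section

namespace Groth.Agent.LubinTate

variable {R : Type u} [CommRing R]

theorem coeff_subst_pair_sub {G : MvPowerSeries (Fin 2) R} (hG : coeff (Finsupp.single 1 1) G = 1)
    {x a b : MvPowerSeries Unit R} (hx : constantCoeff x = 0) (ha : constantCoeff a = 0) (hb : constantCoeff b = 0)
    {d : Unit →₀ ℕ} (h : ∀ e : Unit →₀ ℕ, e.degree < d.degree → coeff e a = coeff e b) :
    coeff d (subst ![x, a] G) - coeff d (subst ![x, b] G) = coeff d a - coeff d b := by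
  have hs : ∀ {c : MvPowerSeries Unit R}, constantCoeff c = 0 → HasSubst ![x, c] := fun {c} hc =>
    hasSubst_of_constantCoeff_zero fun s => by fin_cases s <;> simpa
  rw [coeff_subst (hs ha), coeff_subst (hs hb), ← finsum_sub_distrib (coeff_subst_finite (hs ha) G d)
    (coeff_subst_finite (hs hb) G d), finsum_eq_single _ (Finsupp.single 1 1)]
  · simp [hG]
  · intro e he
    rw [← smul_sub, ← map_sub, Finsupp.prod_fintype _ _ (fun _ => pow_zero _),
      Finsupp.prod_fintype _ _ (fun _ => pow_zero _), Fin.prod_univ_two, Fin.prod_univ_two]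
    simp only [Matrix.cons_val_zero, Matrix.cons_val_one, Matrix.cons_val_fin_one]
    rw [← mul_sub]
    refine smul_eq_zero_of_right _ ?_
    by_cases h1 : e 1 = 0
    · simp [h1]
    have hab : (d.degree : ℕ∞) ≤ (a - b).order := le_order fun c hc => by
      rw [map_sub, h c (by exact_mod_cast hc), sub_self]
    by_cases h0 : e 0 = 0
    · have h2 : 2 ≤ e 1 := by
        by_contra hlt
        refine he (Finsupp.ext fun s => ?_)
        fin_cases s <;> simp <;> omega
      rw [h0, pow_zero, one_mul, map_sub, coeff_pow_congr h2 ha hb h, sub_self]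
    · refine coeff_of_lt_order (lt_of_lt_of_le ?_ le_order_mul)
      have h3 : (1 : ℕ∞) ≤ (x ^ e 0).order := by
        rw [one_le_order_iff_constCoeff_eq_zero, map_pow, hx, zero_pow h0]
      have h4 : (d.degree : ℕ∞) ≤ (a ^ e 1 - b ^ e 1).order := by
        rw [← geom_sum₂_mul]
        exact (hab.trans le_add_self).trans le_order_mul
      refine lt_of_lt_of_le ?_ (add_le_add h3 h4)
      exact_mod_cast (show d.degree < 1 + d.degree by omega)

theorem exists_right_inverse {G : MvPowerSeries (Fin 2) R} (h00 : constantCoeff G = 0)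
    (hG0 : coeff (Finsupp.single 0 1) G = 1) (hG1 : coeff (Finsupp.single 1 1) G = 1) :
    ∃ g : PowerSeries R, g.constantCoeff = 0 ∧ G.subst ![PowerSeries.X, g] = (0 : PowerSeries R) := by
  classical
  let x : MvPowerSeries Unit R := X ()
  let T : MvPowerSeries Unit R → MvPowerSeries Unit R := fun ψ d =>
    if d.degree ≤ 1 then 0 else coeff d (subst ![x, -x + ψ] G)
  have hT : ∀ ψ d, coeff d (T ψ) = if d.degree ≤ 1 then 0 else coeff d (subst ![x, -x + ψ] G) := fun ψ d => rfl
  obtain ⟨ψ, h0, h1, h2⟩ := exists_zero T (fun n => if n ≤ 1 then 0 else 1) 0 (map_zero _)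
    (fun φ φ' hφ hφ' d h => by
      rw [hT, hT]
      split_ifs with hd
      · rw [zero_mul, sub_self]
      · rw [coeff_subst_pair_sub hG1 (constantCoeff_X _) (by simp [x, hφ]) (by simp [x, hφ'])
          (fun e he => by rw [map_add, map_add, h e he]), map_add, map_add, one_mul]
        ring)
    (fun φ _ d hd => ⟨coeff d (T φ), by rw [if_neg (by omega), one_mul]⟩)
    (fun φ _ d hd => by rw [hT, if_pos hd])
  have hc : ∀ s, constantCoeff ((![x, -x + ψ] : Fin 2 → MvPowerSeries Unit R) s) = 0 := fun s => by
    fin_cases s <;> simp [x, h0]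
  refine ⟨-x + ψ, hc 1, MvPowerSeries.ext fun d => ?_⟩
  rw [show (PowerSeries.X : PowerSeries R) = x from rfl]
  refine Eq.trans ?_ (map_zero (coeff d)).symm
  rcases le_or_gt d.degree 1 with hd | hd
  · rcases Nat.lt_or_ge d.degree 1 with h | h
    · have : d = 0 := (Finsupp.degree_eq_zero_iff d).1 (by omega)
      subst this
      rw [coeff_zero_eq_constantCoeff_apply]
      exact constantCoeff_subst_zero hc h00
    · obtain ⟨⟨⟩, rfl⟩ := exists_single_of_degree_one (show d.degree = 1 by omega)
      rw [coeff_single_subst hc h00, Fin.sum_univ_two, hG0, hG1]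
      simp only [Matrix.cons_val_zero, Matrix.cons_val_one, Matrix.cons_val_fin_one]
      rw [map_add, map_neg, h1 _ (Finsupp.degree_single _ _), map_zero, coeff_index_single_self_X]
      ring
  · have := congrArg (coeff d) h2
    rwa [hT, if_neg (by omega), map_zero] at this

theorem exists_inverse (F : FormalGroup R) :
    ∃ g : PowerSeries R, g.constantCoeff = 0 ∧
      F.toPowerSeries.subst ![PowerSeries.X, g] = (0 : PowerSeries R) ∧
      F.toPowerSeries.subst ![g, PowerSeries.X] = (0 : PowerSeries R) ∧
      ∀ k : PowerSeries R, k.constantCoeff = 0 →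
        (F.toPowerSeries.subst ![PowerSeries.X, k] = (0 : PowerSeries R) ∨
          F.toPowerSeries.subst ![k, PowerSeries.X] = (0 : PowerSeries R)) → k = g := by
  obtain ⟨g, hg0, hg⟩ := exists_right_inverse F.zero_constantCoeff F.lin_coeff_X F.lin_coeff_Y
  have hc : ∀ s, constantCoeff ((![X 1, X 0] : Fin 2 → MvPowerSeries (Fin 2) R) s) = 0 := fun s => by
    fin_cases s <;> simp
  have hlin : ∀ j, coeff (Finsupp.single j 1) (subst ![X 1, X 0] F.toPowerSeries : MvPowerSeries (Fin 2) R) = 1 := by
    intro j
    rw [coeff_single_subst hc F.zero_constantCoeff, Fin.sum_univ_two, F.lin_coeff_X, F.lin_coeff_Y]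
    fin_cases j <;> simp [coeff_X, Finsupp.single_left_inj]
  obtain ⟨g', hg'0, hg'⟩ := exists_right_inverse (G := subst ![X 1, X 0] F.toPowerSeries)
    (constantCoeff_subst_zero hc F.zero_constantCoeff) (hlin 0) (hlin 1)
  have hg'' : F.toPowerSeries.subst ![g', PowerSeries.X] = (0 : PowerSeries R) := by
    rw [← hg', subst_comp_subst_apply (hasSubst_of_constantCoeff_zero hc)
      (hasSubst_of_constantCoeff_zero fun s => by fin_cases s; exacts [PowerSeries.constantCoeff_X, hg'0])]
    congr 1
    funext s
    fin_cases s <;>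
      simp [subst_X (hasSubst_of_constantCoeff_zero (a := ![(PowerSeries.X : PowerSeries R), g'])
        fun s => by fin_cases s; exacts [PowerSeries.constantCoeff_X, hg'0])]
  let px : F.Point Unit := ⟨PowerSeries.X, PowerSeries.HasSubst.X'⟩
  let pt : ∀ k : PowerSeries R, k.constantCoeff = 0 → F.Point Unit := fun k hk =>
    ⟨k, PowerSeries.HasSubst.of_constantCoeff_zero hk⟩
  have hl : pt g' hg'0 + px = 0 := Subtype.ext hg''
  have hr : px + pt g hg0 = 0 := Subtype.ext hg
  have hgg : g' = g := congrArg (fun p : F.Point Unit => p.val) (left_neg_eq_right_neg hl hr)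
  refine ⟨g, hg0, hg, hgg ▸ hg'', fun k hk => ?_⟩
  rintro (h | h)
  · have hk' : px + pt k hk = 0 := Subtype.ext h
    exact (congrArg (fun p : F.Point Unit => p.val) (left_neg_eq_right_neg hl hk')).symm.trans hgg
  · have hk' : pt k hk + px = 0 := Subtype.ext h
    exact congrArg (fun p : F.Point Unit => p.val) (left_neg_eq_right_neg hk' hr)

end Groth.Agent.LubinTate
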